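import Mathlib
import Cfsg.Agent.H613.KS.Defs
import Cfsg.Agent.EvenType.CharTwoCent
import Cfsg.Agent.Lib.Cores

/-!
# S4577, rows: criteria (helper611; the 16-version of `H651/KKL/Base.lean`, `H348/KKL/Gen.lean`, `H848/KKL/HS.lean`)

* `le_D` : normal 2-subgroups of `C(z)`, `z ∈ D`, lie in `D`.
* `kill_card`, `kill_sq`, `Bad` : `C(z)` has a normal 2-subgroup of order `> 16` or with an element of order 4.
* `charTwo` : groups of characteristic 2 type with `32 ∣ |S|` have no configuration;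
* `card_le_of_comm`, `sq_of_comm`, `exists_prime`, `comm_pow` : 2-subgroups and powers of `x`;
* `false_of_four`, `exists_sub8`, `exists_conj`.
-/

set_option autoImplicit false

open Cfsg Subgroup Cfsg.Agent.H613.KS

namespace Cfsg.Agent.H611.KS

variable {S : Type*} [Group S] {D : Subgroup S} {x : S}

theorem exists_inv (h : Cfg D x) : ∃ z ∈ D, z ≠ 1 ∧ z * z = 1 := by
  have h1 : 1 < Nat.card D := by rw [h.e16.card]; norm_num
  have : Finite D := Nat.finite_of_card_ne_zero (by omega)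
  rw [Finite.one_lt_card_iff_nontrivial] at h1
  obtain ⟨⟨z, hz⟩, hne⟩ := exists_ne (1 : D)
  exact ⟨z, hz, fun h2 => hne (Subtype.ext h2), h.e16.inv z hz⟩

theorem comm_D (h : Cfg D x) {a b : S} (ha : a ∈ D) (hb : b ∈ D) : a * b = b * a := by
  have h1 := h.e16.inv _ (D.mul_mem ha hb)
  have h2 := h.e16.inv _ ha
  have h3 := h.e16.inv _ hb
  calc a * b = b * b * (a * b) * (a * a) := by rw [h3, h2]; group
    _ = b * (b * a * (b * a)) * a := by group
    _ = b * a := by rw [h.e16.inv _ (D.mul_mem hb ha)]; group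

theorem isPGroup_D (h : Cfg D x) : IsPGroup 2 D := by
  rintro ⟨d, hd⟩
  refine ⟨1, Subtype.ext ?_⟩
  show d ^ (2 ^ 1) = 1
  rw [pow_one, pow_two, h.e16.inv d hd]

theorem centralizer_zpowers (z : S) :
    centralizer ((zpowers z : Subgroup S) : Set S) = centralizer ({z} : Set S) := by
  rw [zpowers_eq_closure, centralizer_closure]

/-- normal 2-subgroups of the centralizer of an element of `D` lie in `D` -/
theorem le_D (h : Cfg D x) {z : S} (hz : z ∈ D) {N : Subgroup S} (hN2 : IsPGroup 2 N)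
    (hNz : N ≤ centralizer {z}) (hNn : ∀ c ∈ centralizer ({z} : Set S), ∀ n ∈ N, c * n * c⁻¹ ∈ N) : N ≤ D := by
  refine h.rad (zpowers z) ((zpowers_le).2 hz) N hN2 ?_ ?_
  · rw [centralizer_zpowers]; exact hNz
  · rw [centralizer_zpowers]; exact hNn

theorem kill_card (h : Cfg D x) {z : S} (hz : z ∈ D) {N : Subgroup S} (hN2 : IsPGroup 2 N)
    (hNz : N ≤ centralizer {z}) (hNn : ∀ c ∈ centralizer ({z} : Set S), ∀ n ∈ N, c * n * c⁻¹ ∈ N)
    (h8 : 16 < Nat.card N) : False := by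
  have h1 := le_D h hz hN2 hNz hNn
  have : Finite D := Nat.finite_of_card_ne_zero (by rw [h.e16.card]; norm_num)
  have h2 := Nat.card_le_card_of_injective (inclusion h1) (inclusion_injective h1)
  rw [h.e16.card] at h2
  omega

theorem kill_sq (h : Cfg D x) {z : S} (hz : z ∈ D) {N : Subgroup S} (hN2 : IsPGroup 2 N)
    (hNz : N ≤ centralizer {z}) (hNn : ∀ c ∈ centralizer ({z} : Set S), ∀ n ∈ N, c * n * c⁻¹ ∈ N)
    {n : S} (hn : n ∈ N) (hn2 : n * n ≠ 1) : False :=
  hn2 (h.e16.inv n (le_D h hz hN2 hNz hNn hn))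

/-- `C(z)`, `z ∈ D#`, is not of characteristic 2 if `32 ∣ |S|`. -/
theorem kill_charTwo [Finite S] (h : Cfg D x) {z : S} (hz : z ∈ D)
    (hc : IsOfCharacteristicTwo ↥(centralizer ({z} : Set S))) (h16 : 32 ∣ Nat.card S) : False := by
  set C := centralizer ({z} : Set S) with hC
  have hN2 : IsPGroup 2 ↥((pCore 2 ↥C).map C.subtype) := by
    have : IsPGroup 2 ↥(pCore 2 ↥C) := Cfsg.Agent.Lib.Cores.pCore_isPGroup 2
    exact this.map _
  have hle : (pCore 2 ↥C).map C.subtype ≤ D := by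
    refine le_D h hz hN2 (map_subtype_le _) ?_
    rintro c hcC _ ⟨n, hn, rfl⟩
    exact ⟨⟨c, hcC⟩ * n * ⟨c, hcC⟩⁻¹, (Cfsg.Agent.Lib.Cores.pCore_normal (G := ↥C) 2).conj_mem n hn _, rfl⟩
  have hDC : D ≤ C := fun d hd => mem_centralizer_singleton_iff.2 (comm_D h hd hz)
  have hxC : x ∈ C := mem_centralizer_singleton_iff.2 (h.comm z hz).symm
  have key : ∀ c : S, c ∈ C → (∀ d ∈ D, d * c = c * d) → c ∈ D := by
    intro c hcC hcd
    refine hle ⟨⟨c, hcC⟩, hc (mem_centralizer_iff.2 fun n hn => Subtype.ext ?_), rfl⟩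
    exact hcd n (hle ⟨n, hn, rfl⟩)
  have hx1 : x = 1 := by
    have h1 := h.e16.inv x (key x hxC fun d hd => h.comm d hd)
    have h2 := h.odd
    have h3 : orderOf x ∣ 2 := orderOf_dvd_of_pow_eq_one (by rw [pow_two, h1])
    rcases (Nat.dvd_prime Nat.prime_two).1 h3 with h4 | h4
    · exact orderOf_eq_one_iff.1 h4
    · rw [h4] at h2; exact absurd h2 (by decide)
  obtain ⟨Q, hQ⟩ := Sylow.exists_subgroup_card_pow_prime (G := S) 2 (n := 5) (by norm_num; exact h16)
  have hQ2 : IsPGroup 2 Q := IsPGroup.of_card hQ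
  obtain ⟨c, -, hcQ⟩ := h.syl Q hQ2 fun q _ => by rw [hx1, mul_one, one_mul]
  have h5 : Q.map (MulAut.conj c).toMonoidHom ≤ D := by
    rintro _ ⟨q, hq, rfl⟩
    exact hcQ q hq
  have h6 := Nat.card_le_card_of_injective (inclusion h5) (inclusion_injective h5)
  rw [h.e16.card, Subgroup.card_map_of_injective (MulAut.conj c).injective, hQ] at h6
  omega

/-- **Groups of characteristic 2 type.** -/
theorem charTwo [Finite S] (hc : IsCharacteristicTwoType S) (h16 : 32 ∣ Nat.card S) : NoCfg S := by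
  intro D x h
  obtain ⟨z, hz, hz1, hzz⟩ := exists_inv h
  have ht : orderOf z = 2 := orderOf_eq_prime (by rw [pow_two, hzz]) hz1
  exact kill_charTwo h hz (EvenType.CharTwoCent.char2_centralizer hc ht) h16

/-- `C(z)` has a normal 2-subgroup of order `> 16` or with an element of order 4 -/
def Bad (z : S) : Prop :=
  ∃ N : Subgroup S, IsPGroup 2 N ∧ N ≤ centralizer {z} ∧
    (∀ c ∈ centralizer ({z} : Set S), ∀ n ∈ N, c * n * c⁻¹ ∈ N) ∧ (16 < Nat.card N ∨ ∃ n ∈ N, n * n ≠ 1)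

theorem Bad.map {S' : Type*} [Group S'] (e : S ≃* S') {z : S} (h : Bad z) : Bad (e z) := by
  obtain ⟨N, h1, h2, h3, h4⟩ := h
  refine ⟨N.map e.toMonoidHom, h1.map _, ?_, ?_, ?_⟩
  · rintro _ ⟨n, hn, rfl⟩
    have := mem_centralizer_singleton_iff.1 (h2 hn)
    exact mem_centralizer_singleton_iff.2 (by
      show e n * e z = e z * e n
      rw [← map_mul, this, map_mul])
  · rintro c hc _ ⟨n, hn, rfl⟩
    refine ⟨e.symm c * n * (e.symm c)⁻¹, h3 _ ?_ n hn, ?_⟩
    · have := mem_centralizer_singleton_iff.1 hc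
      refine mem_centralizer_singleton_iff.2 (e.injective ?_)
      rw [map_mul, map_mul, e.apply_symm_apply, this]
    · show e (e.symm c * n * (e.symm c)⁻¹) = c * e n * c⁻¹
      rw [map_mul, map_mul, map_inv, e.apply_symm_apply]
  · rcases h4 with h4 | ⟨n, hn, hn2⟩
    · left
      rwa [Subgroup.card_map_of_injective e.injective]
    · right
      refine ⟨e n, ⟨n, hn, rfl⟩, fun h5 => hn2 (e.injective ?_)⟩
      rw [map_mul, h5, map_one]

theorem Bad.conj {z : S} (h : Bad z) (g : S) : Bad (g * z * g⁻¹) := h.map (MulAut.conj g)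

theorem Bad.of_isConj {s z : S} (h : Bad s) (hc : IsConj s z) : Bad z := by
  obtain ⟨g, hg⟩ := isConj_iff.1 hc
  rw [← hg]
  exact h.conj g

theorem not_bad (h : Cfg D x) {z : S} (hz : z ∈ D) : ¬ Bad z := by
  rintro ⟨N, h1, h2, h3, h4 | ⟨n, hn, hn2⟩⟩
  · exact kill_card h hz h1 h2 h3 h4
  · exact kill_sq h hz h1 h2 h3 hn hn2

/-- all the involutions are bad -/
theorem of_bad (h : ∀ z : S, z * z = 1 → z ≠ 1 → Bad z) : NoCfg S := by
  intro D x hc
  obtain ⟨z, hz, hz1, hzz⟩ := exists_inv hc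
  exact not_bad hc hz (h z hzz hz1)

/-- a 2-subgroup of `C(x)` has at most 16 elements -/
theorem card_le_of_comm [Finite S] (h : Cfg D x) {Q : Subgroup S} (hQ : IsPGroup 2 Q)
    (hc : ∀ q ∈ Q, q * x = x * q) : Nat.card Q ≤ 16 := by
  obtain ⟨c, -, hcQ⟩ := h.syl Q hQ hc
  rw [← h.e16.card]
  exact Nat.card_le_card_of_injective (fun q : Q => (⟨c * q * c⁻¹, hcQ q q.2⟩ : D)) (fun a b hab => by
    have h1 : c * (a : S) * c⁻¹ = c * b * c⁻¹ := congrArg Subtype.val hab
    exact Subtype.ext (mul_left_cancel (mul_right_cancel h1)))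

/-- elements of 2-power order of `C(x)` are involutions -/
theorem sq_of_comm (h : Cfg D x) {q : S} {k : ℕ} (hq : q ^ 2 ^ k = 1) (hc : q * x = x * q) : q * q = 1 := by
  have hp : IsPGroup 2 ↥(zpowers q) := by
    rintro ⟨_, m, rfl⟩
    refine ⟨k, Subtype.ext ?_⟩
    show (q ^ m) ^ 2 ^ k = 1
    rw [← zpow_natCast, ← zpow_mul, mul_comm, zpow_mul, zpow_natCast, hq, one_zpow]
  obtain ⟨c, -, hcQ⟩ := h.syl (zpowers q) hp (by
    rintro _ ⟨m, rfl⟩
    have : Commute q x := hc
    exact (this.zpow_left m).eq)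
  have h1 := h.e16.inv _ (hcQ q (mem_zpowers q))
  have h2 : c * (q * q) * c⁻¹ = 1 := by rw [← h1]; group
  have h3 : q * q = c⁻¹ * (c * (q * q) * c⁻¹) * c := by group
  rw [h3, h2]; group

theorem ne_one_of_dvd [Finite S] (h : Cfg D x) (h32 : 32 ∣ Nat.card S) : x ≠ 1 := by
  rintro rfl
  have : Fact (Nat.Prime 2) := ⟨Nat.prime_two⟩
  obtain ⟨Q, hQ⟩ := Sylow.exists_subgroup_card_pow_prime (G := S) 2 (n := 5) (by simpa using h32)
  have := card_le_of_comm h (Q := Q) (IsPGroup.of_card hQ) (fun q _ => by rw [mul_one, one_mul])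
  rw [hQ] at this
  omega

/-- a power of prime order -/
theorem exists_prime (h : Cfg D x) (hx : x ≠ 1) :
    ∃ p : ℕ, p.Prime ∧ p ≠ 2 ∧ ∃ k : ℕ, orderOf (x ^ k) = p := by
  have h1 : orderOf x ≠ 1 := fun h1 => hx (orderOf_eq_one_iff.1 h1)
  obtain ⟨p, hp, hpx⟩ := Nat.exists_prime_and_dvd h1
  refine ⟨p, hp, ?_, orderOf x / p, ?_⟩
  · rintro rfl
    have := h.odd
    rw [Nat.odd_iff] at this
    omega
  · obtain ⟨m, hm⟩ := hpx
    have h0 : orderOf x ≠ 0 := by
      have := h.odd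
      rw [Nat.odd_iff] at this
      omega
    have hm0 : m ≠ 0 := by rintro rfl; omega
    rw [hm, Nat.mul_div_cancel_left _ hp.pos, orderOf_pow_of_dvd hm0 (by rw [hm]; exact dvd_mul_left _ _), hm,
      Nat.mul_div_cancel _ (Nat.pos_of_ne_zero hm0)]

theorem comm_pow (h : Cfg D x) (k : ℕ) : ∀ d ∈ D, d * x ^ k = x ^ k * d := by
  intro d hd
  have : Commute d x := h.comm d hd
  exact (this.pow_right k).eq

/-- an element of odd prime order commuting with `D` -/
theorem exists_prime_comm [Finite S] (h : Cfg D x) (h32 : 32 ∣ Nat.card S) :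
    ∃ t : S, (orderOf t).Prime ∧ orderOf t ≠ 2 ∧ ∀ d ∈ D, d * t = t * d := by
  obtain ⟨p, hp, hp2, k, hk⟩ := exists_prime h (ne_one_of_dvd h h32)
  exact ⟨x ^ k, by rw [hk]; exact hp, by rw [hk]; exact hp2, comm_pow h k⟩

/-- **the orders of the centralizers of the elements of odd prime order are not divisible by 16** -/
theorem of_card [Finite S] (h32 : 32 ∣ Nat.card S)
    (h : ∀ t : S, (orderOf t).Prime → orderOf t ≠ 2 → ¬ 16 ∣ Nat.card (centralizer ({t} : Set S))) : NoCfg S := by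
  intro D x hc
  obtain ⟨t, h1, h2, h3⟩ := exists_prime_comm hc h32
  refine h t h1 h2 ?_
  rw [← hc.e16.card]
  exact Subgroup.card_dvd_of_le fun d hd => mem_centralizer_singleton_iff.2 (h3 d hd)

/-- the group order is divisible by 32 or `D` is a Sylow subgroup -/
theorem dvd_card [Finite S] (h : Cfg D x) : 16 ∣ Nat.card S := by
  rw [← h.e16.card]; exact Subgroup.card_subgroup_dvd_card D

/-- `⟨v⟩`, `v` of order 4 with `C(v²)` normalising `⟨v⟩` -/
theorem false_of_four {v : S} (h : Cfg D x) (hd : v * v ∈ D) (h1 : v * v ≠ 1)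
    (h4 : (v * v) * (v * v) = 1)
    (hv : ∀ c : S, c * (v * v) = (v * v) * c → c * v * c⁻¹ = v ∨ c * v * c⁻¹ = v⁻¹) : False := by
  have hv4 : v ^ (2 ^ 2) = 1 := by
    rw [← h4, show 2 ^ 2 = 1 + 1 + 1 + 1 by norm_num, pow_succ, pow_succ, pow_succ, pow_one]
    group
  have hN : zpowers v ≤ D := by
    refine h.rad (zpowers (v * v)) (zpowers_le.2 hd) (zpowers v) ?_ ?_ ?_
    · rintro ⟨n, hn⟩
      obtain ⟨i, rfl⟩ := mem_zpowers_iff.1 hn
      refine ⟨2, Subtype.ext ?_⟩
      change (v ^ i) ^ (2 ^ 2) = 1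
      rw [← zpow_natCast (v ^ i), ← zpow_mul, mul_comm, zpow_mul, zpow_natCast, hv4, one_zpow]
    · rw [zpowers_le, mem_centralizer_iff]
      rintro _ ⟨i, rfl⟩
      have : Commute (v * v) v := (Commute.refl v).mul_left (Commute.refl v)
      exact this.zpow_left i
    · rintro c hc _ ⟨i, rfl⟩
      have h2 : c * (v * v) = (v * v) * c := ((mem_centralizer_iff.1 hc) (v * v) (mem_zpowers _)).symm
      have h3 : c * v ^ i * c⁻¹ = (c * v * c⁻¹) ^ i := by rw [conj_zpow]
      change c * v ^ i * c⁻¹ ∈ zpowers v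
      rw [h3]
      rcases hv c h2 with h4 | h4
      · rw [h4]; exact zpow_mem (mem_zpowers v) i
      · rw [h4]; exact zpow_mem (inv_mem (mem_zpowers v)) i
  exact h1 (h.e16.inv v (hN (mem_zpowers v)))

/-- a subgroup of order 8 of `D` -/
theorem exists_sub8 (h : Cfg D x) : ∃ A : Subgroup S, A ≤ D ∧ Cfsg.Agent.H613.KKL.E8 A := by
  have : Fact (Nat.Prime 2) := ⟨Nat.prime_two⟩
  have hfin : Finite D := Nat.finite_of_card_ne_zero (by rw [h.e16.card]; norm_num)
  obtain ⟨A, hA⟩ := Sylow.exists_subgroup_card_pow_prime (G := D) 2 (n := 3) (by rw [h.e16.card]; norm_num)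
  refine ⟨A.map D.subtype, map_subtype_le A, ?_, ?_⟩
  · rw [Subgroup.card_map_of_injective D.subtype_injective, hA]
    norm_num
  · rintro _ ⟨a, -, rfl⟩
    exact h.e16.inv a a.2

/-- the element `y` has no fixed points on `D` -/
theorem fix_y (h : Cfg D x) {y : S} (hy : Five D y) {a : S} (ha : a ∈ D) (hc : y * a * y⁻¹ = a) : a = 1 := by
  rcases hy.irr (zpowers a) ((zpowers_le).2 ha) (by
    rintro _ ⟨k, rfl⟩
    refine ⟨k, ?_⟩
    show a ^ k = y * a ^ k * y⁻¹
    rw [← conj_zpow, hc]) with h1 | h1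
  · exact (zpowers_eq_bot).1 h1
  · exfalso
    have h2 : Nat.card (zpowers a) = 16 := by rw [h1, h.e16.card]
    rw [Nat.card_zpowers] at h2
    have h3 : orderOf a ∣ 2 := orderOf_dvd_of_pow_eq_one (by rw [pow_two, h.e16.inv a ha])
    rw [h2] at h3
    norm_num at h3

/-- **a subgroup defined by a conjugation invariant condition**: if `a ∈ D`, `a ≠ 1`, the conjugates of `a` under `⟨y⟩`
generate `D` -/
theorem closure_orbit {y : S} (hy : Five D y) {a : S} (ha : a ∈ D) (ha1 : a ≠ 1) :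
    closure {b : S | ∃ k : ℤ, b = y ^ k * a * (y ^ k)⁻¹} = D := by
  have hyk : ∀ k : ℤ, ∀ d ∈ D, y ^ k * d * (y ^ k)⁻¹ ∈ D := by
    have h1 : y ∈ normalizer (D : Set S) := by
      rw [Subgroup.mem_normalizer_iff]
      exact fun d => (hy.norm d).symm
    intro k d hd
    exact (Subgroup.mem_normalizer_iff.1 (Subgroup.zpow_mem _ h1 k) d).1 hd
  rcases hy.irr (closure {b : S | ∃ k : ℤ, b = y ^ k * a * (y ^ k)⁻¹}) (by
      rw [closure_le]
      rintro _ ⟨k, rfl⟩
      exact hyk k a ha) (by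
      intro b hb
      refine closure_induction (p := fun b _ => y * b * y⁻¹ ∈ closure {b : S | ∃ k : ℤ, b = y ^ k * a * (y ^ k)⁻¹})
        ?_ ?_ ?_ ?_ hb
      · rintro _ ⟨k, rfl⟩
        refine subset_closure ⟨k + 1, ?_⟩
        rw [zpow_add, zpow_one]
        have : y ^ k * y = y * y ^ k := ((Commute.refl y).zpow_left k).eq
        rw [this]
        group
      · rw [mul_one, mul_inv_cancel]; exact one_mem _
      · intro u v _ _ hu hv
        rw [show y * (u * v) * y⁻¹ = (y * u * y⁻¹) * (y * v * y⁻¹) by group]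
        exact mul_mem hu hv
      · intro u _ hu
        rw [show y * u⁻¹ * y⁻¹ = (y * u * y⁻¹)⁻¹ by group]
        exact inv_mem hu) with h1 | h1
  · exfalso
    have h2 : a ∈ closure {b : S | ∃ k : ℤ, b = y ^ k * a * (y ^ k)⁻¹} := subset_closure ⟨0, by simp⟩
    rw [h1] at h2
    exact ha1 h2
  · exact h1

/-- a semiregular action -/
theorem dvd_of_free {A X : Type*} [Group A] [Finite A] [Fintype X] (f : A →* Equiv.Perm X)
    (h : ∀ a, a ≠ 1 → ∀ x, f a x ≠ x) : Nat.card A ∣ Fintype.card X := by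
  classical
  have := Fintype.ofFinite A
  let _ : MulAction A X := MulAction.compHom X f
  have h1 := MulAction.sum_card_fixedBy_eq_card_orbits_mul_card_group A X
  rw [Finset.sum_eq_single (1 : A)] at h1
  · have h2 : Fintype.card ↥(MulAction.fixedBy X (1 : A)) = Fintype.card X := by
      apply Fintype.card_congr
      exact (Equiv.subtypeUnivEquiv fun x => one_smul A x)
    rw [h2] at h1
    rw [Nat.card_eq_fintype_card]
    exact Dvd.intro_left _ h1.symm
  · intro a _ ha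
    rw [Fintype.card_eq_zero_iff]
    exact ⟨fun x => h a ha x.1 x.2⟩
  · intro h2
    exact absurd (Finset.mem_univ _) h2

end Cfsg.Agent.H611.KS
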