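import Cfsg.Agent.H613.KS.Defs
import Cfsg.Agent.H611.KKL.Odd8

/-!
# S4577: the row `PSL₂(16)` (helper611)

* `F_L2q16` : `K` quasisimple with `K / Z(K) = PSL₂(F)`, `|F| = 16`: `HZ K`; `F_L216` : `F = GaloisField 2 4`.
-/

set_option autoImplicit false
set_option linter.unusedSectionVars false
set_option linter.style.haveILetI false

namespace Cfsg.Agent.H611.KS

open Cfsg Cfsg.Agent.H613.KS

universe u

variable {K : Type u} [Group K] [Finite K]

/-- **`PSL₂(16)`.** -/
theorem F_L2q16 {F : Type} [Field F] [Fintype F] (hF : Fintype.card F = 16) (hK : IsQuasisimple K)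
    (h : Nonempty (K ⧸ Subgroup.center K ≃* Matrix.ProjectiveSpecialLinearGroup (Fin 2) F)) : HZ K := by
  classical
  haveI : Fact (Nat.Prime 2) := ⟨Nat.prime_two⟩
  haveI : CharP F 2 := by
    obtain ⟨p, hp⟩ := CharP.exists F
    haveI := hp
    obtain ⟨n, hpp, hn⟩ := FiniteField.card F p
    rw [hF] at hn
    have h1 : p ∣ 2 ^ 4 := by
      rw [show (2 : ℕ) ^ 4 = 16 by norm_num, hn]
      exact dvd_pow_self p n.ne_zero
    have h2 : p = 2 := (Nat.prime_dvd_prime_iff_eq hpp Nat.prime_two).1 (hpp.dvd_of_dvd_pow h1)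
    rw [← h2]
    exact hp
  obtain ⟨e⟩ := h
  have hm := Cfsg.Agent.S2086.result hF 2 le_rfl (by norm_num) (by simp)
  have hg : Nat.gcd 2 (16 - 1) = 1 := by norm_num
  rw [hg] at hm
  obtain ⟨f⟩ := Cfsg.Agent.H417.DegQuasi.equiv_of_multiplier hm (Cfsg.Agent.H611.KKL.commutator_eq_top hK) e
  let π : Matrix.SpecialLinearGroup (Fin 2) F →* K :=
    f.symm.toMonoidHom.comp (QuotientGroup.mk' (Subgroup.center _))
  have hπ : Function.Surjective π := f.symm.surjective.comp (QuotientGroup.mk'_surjective _)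
  have hcard : Nat.card K ∣ 4080 := by
    have h1 := Subgroup.card_dvd_of_surjective π hπ
    rw [Cfsg.Agent.S0276.card_sl_two hF] at h1
    norm_num at h1
    exact h1
  intro M hM B hB D hD hE χ hχ
  haveI := Cfsg.Agent.Blocks.Local.isPrime_of_isPModular hM
  by_cases hodd : Odd (charDegree (χ : K → ℂ))
  · exact Cfsg.Agent.H611.KKL.height_of_odd hodd
  exfalso
  rw [Nat.not_odd_iff_even, even_iff_two_dvd] at hodd
  have h3 : IsIrrCharacter (Matrix.SpecialLinearGroup (Fin 2) F) ((χ : K → ℂ) ∘ π) :=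
    Cfsg.Agent.Characters.Core.isIrr_comp π hπ χ.2
  have h4 : charDegree ((χ : K → ℂ) ∘ π) = charDegree (χ : K → ℂ) := by
    unfold charDegree
    rw [Function.comp_apply, map_one]
  have h5 := Cfsg.Agent.S4765.degree_of_dvd (p := 2) h3 (by rw [h4]; exact hodd)
  have h6 : charDegree (χ : K → ℂ) = 16 := by
    rw [← h4]
    unfold charDegree
    rw [h5, hF]
    norm_num
  have h8 : 16 ∣ Nat.card K := by
    rw [← hE.card]
    exact Subgroup.card_subgroup_dvd_card D
  obtain ⟨m, hm⟩ := h8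
  have h9 : ¬ 2 ∣ m := by
    intro hc
    obtain ⟨j, rfl⟩ := hc
    rw [hm] at hcard
    have h10 : 16 * 2 ∣ 4080 := (Dvd.intro j (by ring)).trans hcard
    norm_num at h10
  have h10 : ¬ 2 ∣ Nat.card K / charDegree (χ : K → ℂ) := by
    rw [h6, hm, Nat.mul_div_cancel_left _ (by norm_num)]
    exact h9
  have h11 := (Cfsg.Agent.S0914.result 2 M hM χ).1 h10
  have h12 : B = {χ} := by
    rw [← h11]
    exact Cfsg.Agent.Blocks.Basic.isPBlock_eq_blockOf hB hχ
  have h13 := Cfsg.Agent.S0908.result 2 M hM B hB D hD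
  have h14 : blockDefect 2 B = 0 := by
    unfold blockDefect
    rw [h12, Set.image_singleton, csInf_singleton]
    show (Nat.card K).factorization 2 - (charDegree (χ : K → ℂ)).factorization 2 = 0
    rw [h6, hm]
    have h15 : m ≠ 0 := by
      rintro rfl
      exact h9 (dvd_zero 2)
    rw [Nat.factorization_mul (by norm_num) h15, Finsupp.add_apply, Nat.factorization_eq_zero_of_not_dvd h9]
    omega
  rw [h14, hE.card] at h13
  norm_num at h13

/-- **`PSL₂(16)`.** -/
theorem F_L216 (hK : IsQuasisimple K) (_hZ : Odd (Nat.card ↥(Subgroup.center K)))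
    (h : Nonempty (K ⧸ Subgroup.center K ≃* Matrix.ProjectiveSpecialLinearGroup (Fin 2) (GaloisField 2 4))) :
    HZ K := by
  letI := Fintype.ofFinite (GaloisField 2 4)
  have hF : Fintype.card (GaloisField 2 4) = 16 := by
    rw [← Nat.card_eq_fintype_card, GaloisField.card 2 4 (by norm_num)]
    norm_num
  exact F_L2q16 hF hK h

end Cfsg.Agent.H611.KS
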