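import Cfsg.Agent.H611.KS.Base
import Cfsg.Agent.H348.KKL.MathA
import Cfsg.Agent.H814.JM.M11

/-!
# S4577: the row `M₁₁` (helper611)

A subgroup of order 8 of `D` commutes with no element of odd prime order (`H348.KKL.no_comm12`), so `x = 1` and `D` is a
Sylow 2-subgroup; but `M₁₁` has an element of order 4.
-/

set_option autoImplicit false

open Cfsg Subgroup Cfsg.Agent.H613.KS

namespace Cfsg.Agent.H611.KS

universe u

variable {S : Type u} [Group S] [Finite S]

theorem E_M11 (h : Spor.IsoM11 S) : NoCfg S := by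
  obtain ⟨e⟩ := h
  intro D x hc
  let i : Spor.M11 →* Spor.M12 := Subgroup.inclusion inf_le_left
  by_cases hx : x = 1
  · -- an element of order 4
    obtain ⟨q, hq⟩ := e.surjective ⟨H814.JM.M11.v, H814.JM.M11.v_mem⟩
    have h4 : q ^ 2 ^ 2 = 1 := by
      apply e.injective
      rw [map_pow, hq, map_one]
      apply Subtype.ext
      show H814.JM.M11.v ^ 2 ^ 2 = 1
      rw [show 2 ^ 2 = 2 * 2 by norm_num, pow_mul, pow_two H814.JM.M11.v, H814.JM.M11.vv, pow_two, H814.JM.M11.t2]
    have h5 := sq_of_comm hc h4 (by rw [hx, mul_one, one_mul])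
    have h6 : H814.JM.M11.v * H814.JM.M11.v = 1 := by
      have h7 := congrArg (fun s => ((e s : Spor.M11) : Equiv.Perm GolayPt)) h5
      simp only [map_mul, map_one, hq] at h7
      exact h7
    rw [H814.JM.M11.vv] at h6
    exact absurd (congrArg (fun g : Equiv.Perm GolayPt => g (some 1)) h6) (by decide +kernel)
  · obtain ⟨A, hA, hA8⟩ := exists_sub8 hc
    obtain ⟨p, hp, hp2, k, hk⟩ := exists_prime hc hx
    refine H348.KKL.no_comm12 ((CoThreeStd.M12.rho : Spor.M12 →* _).comp (i.comp e.toMonoidHom)) (fun t s hs ht => ?_)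
      A hA8 hp hp2 hk fun d hd => comm_pow hc k d (hA hd)
    have h1 := H348.KKL.five12 (i (e t)) s hs ht
    have h2 : e t = 1 := Subgroup.inclusion_injective _ (h1.trans (map_one i).symm)
    exact e.injective (h2.trans (map_one _).symm)

end Cfsg.Agent.H611.KS
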